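import Cfsg.Agent.JJ.Loc

/-! Fusion in groups with Sylow 2-subgroups of type `J₂`. -/

set_option autoImplicit false
set_option linter.unusedVariables false
set_option linter.unusedSectionVars false

namespace JJ

open Cfsg Subgroup FT H4 H5 GW
open MT (Cj o2 isConj_mk cj_top cj_mk ext0)
open A8 (SJ jq)

universe u

variable {G : Type u} [Group G] [Finite G] {j : T0 →* G}

theorem sqc (h : SJ j) {P : Subgroup G} (hP : P ≤ j.range) {g : G} {x y : T0} (c : y * x = x * y)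
    (e : y * y = z0) (hg : ∀ c ∈ j.range ⊓ Cen1 (j x), g * c * g⁻¹ ∈ P) :
    ∃ w, j w ∈ P ∧ g * j z0 * g⁻¹ = j (w * w) ∧ w * w ≠ 1 ∧
      (w * w = z0 ∨ ∃ d, d * pp 4 * d⁻¹ = w * w) := by
  have m := hg _ ⟨⟨y, rfl⟩, h.comm.2 c⟩
  obtain ⟨w, hw⟩ := hP m
  have e1 : g * j z0 * g⁻¹ = j (w * w) := by rw [map_mul, hw, conj_mul, ← map_mul, e]
  have := h.of_ord (e1 ▸ iconj (h.ord (x := z0) (by decide) (by decide)) g)
  exact ⟨w, hw ▸ m, e1, this.2, (sqS w this.1).resolve_left this.2⟩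

theorem toz (h : SJ j) {x y : T0} (c : y * x = x * y) (e : y * y = z0) (x1 : x ≠ z0)
    (k : IsConj (j x) (j z0)) :
    ∃ g d, g * j x * g⁻¹ = j z0 ∧ g * j z0 * g⁻¹ = j (d * pp 4 * d⁻¹) := by
  have SH : j.range ≤ ⊤ ⊓ Cen1 (j z0) := by
    rintro _ ⟨c, rfl⟩; exact ⟨mem_top _, h.comm.2 (z_comm c)⟩
  obtain ⟨g, -, e1, e2⟩ := ext0 (X := j.range ⊓ Cen1 (j x)) (h.syl.of_le SH le_top)
    (h.syl.isPGroup.to_le inf_le_left) (inf_le_inf_right _ le_top) (cj_top.2 k)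
  obtain ⟨w, -, e3, -, e4 | ⟨d, e4⟩⟩ := sqc h le_rfl c e e2
  · rw [e4] at e3
    exact absurd (h.inj (mul_left_cancel (mul_right_cancel (e1.trans e3.symm)))) x1
  · exact ⟨g, d, e1, e4 ▸ e3⟩

theorem fus (h : SJ j) (h2 : ∀ H : Subgroup G, H.Normal → H.index ≠ 2) :
    Cj (Cen1 (j z0)) (j (pp 4)) (j (pp 0)) := by
  have cz : ∀ d, Cj (Cen1 (j z0)) (j (pp 4)) (j (d * pp 4 * d⁻¹)) := fun d =>
    ⟨j d, h.comm.2 (z_comm d), by simp⟩
  obtain ⟨y, y1, y2⟩ := sq_p0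
  by_cases az : IsConj (j (pp 0)) (j z0)
  · obtain ⟨g, d, e1, e2⟩ := toz h y1 y2 (by decide) az
    obtain ⟨y', y3, y4⟩ := sq_p4 d
    obtain ⟨k, d', e3, e4⟩ := toz h y3 y4 (fun e => absurd ((mul_inv_eq_iff_eq_mul.1 e).trans
      (z_comm d).symm) (by rw [mul_right_inj]; decide)) (e2 ▸ (isConj_mk g _).symm)
    refine (cz d').trans (Cj.symm ⟨k * g, c1'.2 ?_, ?_⟩)
    · exact (show _ = k * (g * j z0 * g⁻¹) * k⁻¹ by group).trans (e2 ▸ e3)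
    · exact (show _ = k * (g * j (pp 0) * g⁻¹) * k⁻¹ by group).trans (e1 ▸ e4)
  by_cases au : IsConj (j (pp 0)) (j (pp 4))
  · obtain ⟨g, -, e1, e2⟩ := ext0 (X := j.range ⊓ Cen1 (j (pp 0))) (h.sylC (s := pp 4) fun s e =>
      cc_le s (h.sq_of (h.ord (by decide) (by decide)) e).2 fun c => az (au.trans (c ▸ e)))
      (h.syl.isPGroup.to_le inf_le_left) (inf_le_inf_right _ le_top) (cj_top.2 au)
    obtain ⟨w, -, e3, -, e4 | ⟨d, e4⟩⟩ := sqc h inf_le_left y1 y2 e2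
    · exact Cj.symm ⟨g, c1'.2 (e4 ▸ e3), e1⟩
    · exact absurd ((au.trans (cz d).isConj).trans (e4 ▸ e3 ▸ (isConj_mk g _).symm)) az
  obtain ⟨φ, hφ⟩ := MT.tt (M := T1.map j) h.syl (map_le_range _ _) (by
    rw [h.card_S, T1, h.card_map]; decide +kernel)
  by_contra
  refine h2 _ inferInstance (H2.index_ker_of_neg_one (φ.comp topEquiv.symm.toMonoidHom)
    (g := j (pp 0)) (hφ _ (mem_top _) (by rw [← map_mul]; exact map_one j) ?_))
  rintro _ ⟨s, hs, rfl⟩ c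
  have c := c.isConj
  obtain ⟨s2, s1⟩ := h.sq_of (h.ord (by decide) (by decide)) c
  rcases invT s hs s2 with e | e | ⟨d, e⟩ | ⟨e, e'⟩
  exacts [s1 e, az (e ▸ c), au (c.trans (e ▸ (cz d).isConj.symm)), by
    obtain ⟨g, -, e1, e2⟩ := ext0 (X := j.range ⊓ Cen1 (j (pp 0))) (h.sylC (s := s) fun s' k => by
      have k := c.trans k
      obtain ⟨s2, s1⟩ := h.sq_of (h.ord (by decide) (by decide)) k
      rcases invS s' s2 with e1 | e1 | ⟨d, e1⟩ | e1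
      exacts [absurd e1 s1, absurd (e1 ▸ k) az, absurd (k.trans (e1 ▸ (cz d).isConj.symm)) au,
        (e1.trans e.symm).le])
      (h.syl.isPGroup.to_le inf_le_left) (inf_le_inf_right _ le_top) (cj_top.2 c)
    obtain ⟨w, m, -, e3, -⟩ := sqc h inf_le_left y1 y2 e2
    exact e3 (e' w (h.comm.1 m.2))]

/-- the centralizer of the central involution modulo its core -/
theorem cz_quot (h : SJ j) (f : Cj (Cen1 (j z0)) (j (pp 4)) (j (pp 0))) :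
    ∃ j' : T0 →* Cen1 (j z0) ⧸ oddCore (Cen1 (j z0)), CZ j' ∧
      pPrimeCore 2 (Cen1 (j z0) ⧸ oddCore (Cen1 (j z0))) = ⊥ := by
  have SH : j.range ≤ Cen1 (j z0) := by rintro _ ⟨c, rfl⟩; exact h.comm.2 (z_comm c)
  refine ⟨jq SH (qO 2 _), ⟨h.quot SH (qO_surj 2 _) (qO_ker 2 _) (odd_Oo _), fun g => ?_,
    A8.jq_conj SH f⟩, ?_⟩
  · obtain ⟨g, rfl⟩ := qO_surj 2 _ g
    rw [A8.jq_apply, ← map_mul, ← map_mul]
    exact congrArg _ (Subtype.ext (c1.1 g.2))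
  · rw [← pPrimeCoreIn_top, ← im_self (qO_surj 2 _)]; exact core_im_qO 2 _

end JJ
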