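import Cfsg.Agent.JJ.Mon
import Cfsg.Agent.JJ.Fus

/-! The Sylow 2-subgroup and the centralizer of a 2-central involution of `J₂`. -/

set_option autoImplicit false

namespace JJ

open Cfsg Cfsg.Spor Quaternion Matrix M Subgroup FT H4 H5 GW
open MT (Cj card_cj card_img cj_mk)
open A8 (SJ)

theorem cen_mat {g : Γ} {x : T0} (h : π g ∈ Cen1 (jJ x)) :
    mat g * Φ (Mon x) = Φ (Mon x) * mat g ∨ mat g * Φ (Mon x) = Φ (-Mon x) * mat g := by
  rw [c1, jJ_apply, ← map_mul, ← map_mul, π_eq, map_mul, map_mul, mat_gm] at h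
  rwa [map_neg, neg_mul]

theorem un_ent (g : Γ) (s t : Fin 3) : mat g s 0 * star (mat g t 0) + mat g s 1 * star (mat g t 1) +
    mat g s 2 * star (mat g t 2) = if s = t then 1 else 0 := by
  simpa [mul_apply, Fin.sum_univ_three, star_apply, one_apply] using
    congrFun (congrFun (mat_un g) s) t

theorem bl {g : Γ} (h : π g ∈ Cen1 (jJ z0)) : Bl (mat g) := by
  refine bl_of ((cen_mat h).resolve_right fun e => ?_)
  rw [Mon_z, diagonal_neg] at e
  have h1 := un_ent g 1 1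
  have h2 := un_ent g 2 2
  have h3 := un_ent g 1 2
  rw [zero_of e (s := 1) (t := 1) (by decide), zero_of e (s := 1) (t := 2) (by decide)] at h1 h3
  rw [zero_of e (s := 2) (t := 1) (by decide), zero_of e (s := 2) (t := 2) (by decide)] at h2
  simp at h3
  rcases h3 with h3 | h3 <;> simp [h3] at h1 h2

theorem dg {g : Γ} (b : Bl (mat g)) (h : π g ∈ Cen1 (jJ (pp 4))) :
    mat g 1 2 = 0 ∧ mat g 2 1 = 0 := by
  refine dg_of ((cen_mat h).resolve_right fun e => ?_)
  rw [Mon_u, diagonal_neg] at e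
  have h1 := un_ent g 0 0
  simp [zero_of e (s := 0) (t := 0) (by decide), b.1, b.2.1] at h1

/-- the noncentral involutions of `Q` -/
def inO (x : T0) : Bool := inQ x && x * x == 1 && x != 1 && x != z0

theorem st_comm (x : M) : st x * x = x * st x := φ_inj (by
  rw [map_mul, map_mul, φ_st, star_mul_self, self_mul_star])

theorem nm8 : ∀ e a b, ∃ x, inO x = true ∧ Mon x = !![1, 0, 0; 0, 0, -qv e a b;
    0, -st (qv e a b), 0] := by decide +kernel

theorem nm_cases {w : Fin 3 → M} (hw : w ∈ LM) (h0 : w 0 = 0) (n : ip w w = 1 + 1 + (1 + 1)) :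
    ∃ x, inO x = true ∧ NM w = Mon x + Mon x := by
  obtain ⟨h1, h2, h3⟩ := mem_LM.1 hw
  rw [h0] at h1 h3
  replace h1 : Ev (w 1 * hb) := Ev.neg (by simpa using h1)
  obtain ⟨a, ha⟩ := ev_h.1 h1
  obtain ⟨b, hb'⟩ := (ev_h (m := w 2)).1 (by simpa [sub_mul] using (h2.mul (-1)).add h1)
  have s0 : st 0 = 0 := by decide
  have sh : st qh = hb := by decide
  have e : NM w = !![1 + 1, 0, 0; 0, 1 + 1 - hb * (st a * a) * qh, -(hb * (st a * b) * qh);
      0, -st (hb * (st a * b) * qh), 1 + 1 - hb * (st b * b) * qh] := by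
    ext1 s t
    fin_cases s <;> fin_cases t <;>
      simp [NM, e2, h0, ha, hb', s0, st_mul, sh, st_st, mul_assoc, show st hb = qh by decide]
  have n : st a * a + st b * b = 1 + 1 := two_cancel (by
    have k : ∀ a, a * qh * st (a * qh) = st a * a + st a * a := fun a => by
      rw [st_mul, mul_assoc, ← mul_assoc qh, show qh * st qh = 1 + 1 by decide, st_comm]
      noncomm_ring
    rw [← n, ip, h0, ha, hb', k, k]; noncomm_ring)
  have tri : a = 0 ∨ b = 0 ∨ st a * a = 1 ∧ st b * b = 1 := by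
    have := congrArg tz n
    rw [tz_add, show tz (1 + 1) = 4 by decide, st_comm, st_comm] at this
    by_cases c : T a ≤ 8
    · exact (enum c).imp_right fun u => .inr ⟨u.2.1, add_left_cancel (u.2.1 ▸ n)⟩
    · exact .inr ((enum (by rw [T_eq] at c ⊢; omega)).imp_right fun u =>
        ⟨add_right_cancel (u.2.1 ▸ n), u.2.1⟩)
  rw [e]
  rcases tri with rfl | rfl | ⟨ea, eb⟩
  · rw [s0, zero_mul, zero_add] at n
    rw [s0, zero_mul, zero_mul, n]
    exact ⟨pp 4 * z0, by decide, by decide +kernel⟩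
  · rw [mul_zero, add_zero] at n
    rw [mul_zero, n]
    exact ⟨pp 4, by decide, by decide +kernel⟩
  · have u : st a * b * st (st a * b) = 1 := by
      rw [st_mul, st_st, mul_assoc, ← mul_assoc b, ← st_comm b, eb, one_mul, ea]
    have u := (enum (x := st a * b) (by rw [T_eq, u]; decide)).resolve_left fun c => by
      rw [c, zero_mul] at u; exact absurd u (by decide)
    obtain ⟨p, q, r, k⟩ := u.2.2.2 (by
      convert h3.mul (st a) using 1
      rw [ha, hb', ← ea]; noncomm_ring)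
    obtain ⟨x, hx, e⟩ := nm8 p q r
    refine ⟨x, hx, ?_⟩
    rw [e, k, ea, eb, st_add, show hb * 1 * qh = 1 + 1 by decide]
    ext1 s t
    fin_cases s <;> fin_cases t <;> simp

theorem orbit {n : J2} (h : n ∈ Cen1 (jJ z0)) :
    ∃ x, inO x = true ∧ jJ x = n * jJ (pp 4) * n⁻¹ := by
  obtain ⟨g, rfl⟩ := π_surj n
  obtain ⟨w, hw, e, n⟩ := row g⁻¹ 1
  obtain ⟨x, hx, k⟩ := nm_cases hw (φ_inj (by
    have : φ (w 0) = _ + _ := congrFun (e.trans (e2_mul ..)) 0
    rwa [(bl (g := g⁻¹) (map_inv π g ▸ inv_mem h)).2.2.1, add_zero, ← map_zero φ] at this)) n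
  refine ⟨x, hx, ?_⟩
  rw [jJ_apply, jJ_apply, ← map_inv, ← map_mul, ← map_mul, π_eq, map_mul, map_mul, mat_gm, mat_gm,
    ← Mr_eq k, e, mat_inv, ← Mr_conj (mat_un g), Mr_eq (B := Mon (pp 4)) (by decide +kernel)]
  exact .inl rfl

theorem fusJ : Cj (Cen1 (jJ z0)) (jJ (pp 4)) (jJ (pp 1)) := by
  obtain ⟨a, ha⟩ := ex_refl (r := ![hb, 1, 1]) (by decide +kernel) (by decide +kernel)
  obtain ⟨b, hb'⟩ := ex_refl (r := ![hb, -qi, -qi]) (by decide +kernel) (by decide +kernel)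
  have k : ∀ x y, NM ![hb, 1, 1] * NM ![hb, -qi, -qi] * Mon x = Mon y *
      (NM ![hb, 1, 1] * NM ![hb, -qi, -qi]) → π (a * b) * jJ x * (π (a * b))⁻¹ = jJ y :=
    fun x y e => by
      rw [mul_inv_eq_iff_eq_mul, jJ_apply, jJ_apply, ← map_mul, ← map_mul, π_eq]
      simp only [map_mul, mat_gm, ha, hb', Φ_NM, Matrix.smul_mul, Matrix.mul_smul]
      simp only [← map_mul, e]
      exact .inl trivial
  exact ⟨_, c1'.2 (k _ _ (by decide +kernel)), k _ _ (by decide +kernel)⟩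

theorem cen2 {n : J2} (h : n ∈ Cen1 (jJ z0) ⊓ Cen1 (jJ (pp 4))) : ∃ t k g, inT t = true ∧
    π g = n ∧ (mat g = Φ (Dg t k) ∨ mat g = -Φ (Dg t k)) := by
  obtain ⟨g, rfl⟩ := π_surj n
  obtain ⟨t, k, e⟩ := diag2 (bl h.1) (dg (bl h.1) h.2)
  exact ⟨t, k, g, e.1, rfl, e.2⟩

theorem card_T1 : Nat.card T1 = 64 := by
  change Nat.card {x // inT x = true} = 64
  rw [Nat.card_eq_fintype_card, Fintype.card_subtype]; decide +kernel

theorem card_D : Nat.card ↥(Cen1 (jJ z0) ⊓ Cen1 (jJ (pp 4))) ≤ 64 * 3 := by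
  choose t k g ht hg e using fun n : ↥(Cen1 (jJ z0) ⊓ Cen1 (jJ (pp 4))) => cen2 n.2
  have := Nat.card_le_card_of_injective (fun n => ((⟨t n, ht n⟩, k n) : T1 × Fin 3))
    fun n m c => Subtype.ext (by
      have e1 := e n
      rw [Subtype.mk.inj (Prod.mk.inj c).1, (Prod.mk.inj c).2] at e1
      rw [← hg, ← hg, π_eq]
      rcases e1 with e1 | e1 <;> rcases e m with e2 | e2 <;> simp [e1, e2])
  rwa [Nat.card_prod, card_T1, Nat.card_eq_fintype_card (α := Fin 3)] at this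

theorem pS : IsPGroup 2 jJ.range := IsPGroup.of_card (n := 7) (by
  rw [← Nat.card_congr (MonoidHom.ofInjective jJ_inj).toEquiv, Nat.card_eq_fintype_card,
    T0.card_T0]; rfl)

theorem commJ {x y : T0} (h : x * y = y * x) : jJ x ∈ Cen1 (jJ y) := by
  rw [c1, ← map_mul, h, map_mul]

theorem sylD : IsSylowOf 2 (T1.map jJ) (Cen1 (jJ z0) ⊓ Cen1 (jJ (pp 4))) := by
  refine isSylowOf_of_maximal ?_ (pS.to_le (map_le_range _ _)) fun R r1 r2 r3 n hn => ?_
  · rintro _ ⟨x, hx, rfl⟩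
    exact ⟨commJ (z_comm x), commJ ((by decide +kernel : ∀ x, inT x = true → x * pp 4 = pp 4 * x) x hx)⟩
  obtain ⟨t, k, g, ht, rfl, e⟩ := cen2 (r3 hn)
  have m : jJ t ∈ T1.map jJ := mem_map_of_mem _ ht
  have := H9.eq_one_of_odd_of_mem r1 (mul_mem (inv_mem (r2 m)) hn) (Odd.of_dvd_nat (n := 3)
    (by decide) (orderOf_dvd_of_pow_eq_one (by
      have c : Φ (Dg 1 k) ^ 3 = 1 := by
        rw [← map_pow, Dg, diagonal_pow, ← map_one Φ, ← diagonal_one]
        congr 2
        clear e; revert k; decide +kernel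
      have i : mat (gm t)⁻¹ * Φ (Mon t) = 1 := by rw [← mat_gm, ← map_mul, inv_mul_cancel, map_one]
      rw [jJ_apply, ← map_inv, ← map_mul, ← map_pow, ← map_one π, π_eq, map_pow, map_mul, map_one]
      rw [Dg_eq ht, map_mul] at e
      refine e.imp (fun e => ?_) fun e => ?_
      · rw [e, ← mul_assoc, i, one_mul, c]
      · rw [e, mul_neg, ← mul_assoc, i, one_mul, Odd.neg_pow (by decide), c])))
  exact inv_mul_eq_one.1 this ▸ m

theorem SH : jJ.range ≤ Cen1 (jJ z0) := by rintro _ ⟨x, rfl⟩; exact commJ (z_comm x)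

theorem cjO {x : T0} (h : inO x = true) : Cj (Cen1 (jJ z0)) (jJ (pp 4)) (jJ x) := by
  obtain ⟨d, e | e⟩ := (by decide +kernel : ∀ x, inO x = true → ∃ d, d * pp 4 * d⁻¹ = x ∨
    d * pp 1 * d⁻¹ = x) x h
  exacts [(A8.cjS jJ e).mono SH, fusJ.trans ((A8.cjS jJ e).mono SH)]

theorem card_H : Nat.card (Cen1 (jJ z0)) = 10 * Nat.card ↥(Cen1 (jJ z0) ⊓ Cen1 (jJ (pp 4))) := by
  rw [← card_cj _ (jJ (pp 4)), card_img jJ_inj (fun x => inO x = true) fun g =>
    ⟨by rintro ⟨n, hn, rfl⟩; exact orbit hn, by rintro ⟨x, hx, rfl⟩; exact cjO hx⟩]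
  congr 1

theorem sjJ : SJ jJ := by
  have sH : IsSylowOf 2 jJ.range (Cen1 (jJ z0)) := isSylowOf_of_card SH pS (by
    have := sylD.card_eq
    rw [card_map_of_injective jJ_inj, card_T1] at this
    rw [card_H, Nat.factorization_mul (by norm_num) Nat.card_pos.ne', Finsupp.add_apply, pow_add,
      ← this, ← Nat.card_congr (MonoidHom.ofInjective jJ_inj).toEquiv, Nat.card_eq_fintype_card,
      T0.card_T0, show Nat.factorization 10 2 = 1 by decide +kernel]
    norm_num)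
  refine ⟨jJ_inj, ?_⟩
  by_contra hc
  obtain ⟨R, r1, r2, r3⟩ := ex_gt pS le_top hc
  refine r2.ne' (sH.eq_of_le r1 r2.le fun k hk => c1'.2 ?_)
  obtain ⟨c, e⟩ := cmem (r3 hk).2 ⟨z0, rfl⟩
  rcases zS c fun d => jJ_inj (by
    rw [map_mul, map_mul, e, ← c1, ← conj_c1, mem_conjS]
    exact SH (cmem' (r3 hk).2 ⟨d, rfl⟩)) with rfl | rfl
  · rw [map_one, eq_comm, conj_eq_one_iff, ← map_one jJ] at e
    exact absurd (jJ_inj e) (by decide)
  · exact e.symm

universe u

theorem exists_SJ' {G : Type u} [Group G] [Finite G] (S : Sylow 2 G) (P : Sylow 2 J2)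
    (e : (S : Subgroup G) ≃* (P : Subgroup J2)) : ∃ j : T0 →* G, SJ j ∧ j.range = S := by
  obtain ⟨k, -, ek⟩ := sjJ.syl.exists_conj (isSylowOf_top P)
  have φ : T0 ≃* (S : Subgroup G) := (((MonoidHom.ofInjective jJ_inj).trans (conjSEquiv k _)).trans
    (MulEquiv.subgroupCongr ek)).trans e.symm
  have : ((S : Subgroup G).subtype.comp φ.toMonoidHom).range = S := by
    rw [MonoidHom.range_comp, MonoidHom.range_eq_top.2 φ.surjective, ← MonoidHom.range_eq_map,
      range_subtype]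
  exact ⟨_, ⟨(S : Subgroup G).subtype_injective.comp φ.injective, by
    rw [this]; exact isSylowOf_top S⟩, this⟩

theorem main {G : Type u} [Group G] [Finite G] {j : T0 →* G} (h : SJ j)
    (h2 : ∀ H : Subgroup G, H.Normal → H.index ≠ 2) :
    Nonempty ((Cen1 (j z0) ⧸ oddCore (Cen1 (j z0))) ≃* Cen1 (jJ z0)) := by
  obtain ⟨_, c, o⟩ := cz_quot h (fus h h2)
  obtain ⟨_, c', o'⟩ := cz_quot sjJ (cjO (by decide))
  obtain ⟨e⟩ := c.iso c' o o'
  have s := QuotientGroup.mk'_surjective (oddCore (Cen1 (jJ z0)))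
  exact ⟨e.trans (MulEquiv.ofBijective _ ((Nat.bijective_iff_surjective_and_card _).2 ⟨s, le_antisymm
    (by have := c'.card_ge; have := card_D; rw [card_H]; omega)
    (Nat.card_le_card_of_surjective _ s)⟩)).symm⟩

end JJ
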