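import Cfsg.Agent.JJ.TC

/-! Groups with Sylow 2-subgroups of type `J₂` and a central involution. -/

set_option autoImplicit false
set_option linter.unusedVariables false
set_option linter.unusedSectionVars false

namespace JJ

open Cfsg Subgroup FT H4 H5 GW Equiv
open MT (Cj o2 isConj_mk cj_top cj_mk ext0 card_cj card_img card_img_le)
open A8 (SJ A0 inA isZ Hy)

universe u

variable {G : Type u} [Group G] [Finite G] {j : T0 →* G} {X : Type u} [Group X] [Finite X]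
  {f : G →* X}

theorem ex_x1 : ∃ x, x * t1 * x⁻¹ = t1 * z0 ∧
    ∀ a, a * t1 = t1 * a → x * a * x⁻¹ * t1 = t1 * (x * a * x⁻¹) := by decide +kernel

/-- the involution `z` is central, the centre of `Q / ⟨z⟩` is moved -/
structure CZ (j : T0 →* G) : Prop extends SJ j where
  cen : ∀ g, g * j z0 = j z0 * g
  fus : IsConj (j (pp 4)) (j (pp 0))

/-- the quotient by `z` -/
structure Qt (j : T0 →* G) (f : G →* X) : Prop extends CZ j where
  surj : Function.Surjective f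
  ker : f.ker = zpowers (j z0)

theorem CZ.zz (h : CZ j) : j z0 * j z0 = 1 := by rw [← map_mul]; exact map_one j

namespace Qt

variable (h : Qt j f)
include h

theorem fz : f (j z0) = 1 := h.ker.ge (mem_zpowers _)

theorem fe {a b : G} : f a = f b ↔ a = b ∨ a = b * j z0 := by
  refine ⟨fun e => ?_, by rintro (rfl | rfl) <;> simp [h.fz]⟩
  have : b⁻¹ * a ∈ zpowers (j z0) := h.ker.le (by simp [MonoidHom.mem_ker, e])
  rcases (H9.mem_zpowers_two (h.ord (by decide) (by decide))).1 this with e | e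
  exacts [.inl (inv_mul_eq_one.1 e).symm, .inr (inv_mul_eq_iff_eq_mul.1 e)]

/-- the Sylow subgroup of the quotient -/
def jb : A8.S0 →* X := MonoidHom.mk' (fun y => f (j (sec y))) fun x y => by
  rcases sec_mul x y with e | e <;> simp [e, h.fz]

theorem jb_apply (y : A8.S0) : h.jb y = f (j (sec y)) := rfl

theorem jb_pt (k : Fin 5) : h.jb (pt k) = f (j (pp k)) := by rw [jb_apply, sec_pt]

theorem mem_S {g : G} : f g ∈ h.jb.range ↔ g ∈ j.range := by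
  refine ⟨fun ⟨y, e⟩ => ?_, ?_⟩
  · rcases h.fe.1 e.symm with rfl | rfl
    exacts [⟨_, rfl⟩, ⟨_, map_mul j _ _⟩]
  · rintro ⟨x, rfl⟩
    obtain ⟨y, rfl | rfl⟩ := sec_surj x
    exacts [⟨y, rfl⟩, ⟨y, by simp [jb_apply, h.fz]⟩]

theorem mem_A {g : G} : f g ∈ A0.map h.jb ↔ g ∈ Q1.map j := by
  refine ⟨fun ⟨y, hy, e⟩ => ?_, ?_⟩
  · rcases h.fe.1 e.symm with rfl | rfl
    exacts [⟨_, (sec_Q y).1.trans hy, rfl⟩, ⟨_, (sec_Q y).2.trans hy, map_mul j _ _⟩]
  · rintro ⟨x, hx, rfl⟩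
    obtain ⟨y, rfl | rfl⟩ := sec_surj x
    exacts [⟨y, (sec_Q y).1.symm.trans hx, rfl⟩,
      ⟨y, (sec_Q y).2.symm.trans hx, by simp [jb_apply, h.fz]⟩]

theorem sj : SJ h.jb := by
  refine ⟨(injective_iff_map_eq_one _).2 fun y e => sec_inj y ?_, ?_⟩
  · exact (h.fe.1 (e.trans (map_one f).symm)).imp (fun e => h.inj (e.trans (map_one j).symm))
      fun e => h.inj (e.trans (one_mul _))
  · have := h.syl.map f
    rw [map_top_of_surjective f h.surj] at this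
    convert this
    ext x
    obtain ⟨g, rfl⟩ := h.surj x
    exact ⟨fun e => mem_map_of_mem f (h.mem_S.1 e), fun ⟨a, ha, e⟩ => e ▸ h.mem_S.2 ha⟩

theorem sq {x y : A8.S0} (e : IsConj (h.jb x) (h.jb y)) (hx : sec x * sec x = 1) :
    sec y * sec y = 1 := by
  obtain ⟨g, e⟩ := isConj_iff.1 e
  obtain ⟨g, rfl⟩ := h.surj g
  rw [jb_apply, jb_apply, ← map_inv, ← map_mul, ← map_mul, eq_comm, h.fe] at e
  have : g * j (sec x) * g⁻¹ * (g * j (sec x) * g⁻¹) = 1 := by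
    rw [conj_mul, ← map_mul, hx]; simp
  refine h.inj ?_
  rw [map_mul, map_one]
  rcases e with e | e <;> rw [e]
  · exact this
  · rw [mul_assoc, ← mul_assoc (j z0), ← h.cen, mul_assoc _ (j z0), h.zz, mul_one, this]

theorem AC {x : X} (hx : x ∈ A0.map h.jb) : A0.map h.jb ≤ Cen1 x := by
  rintro _ ⟨y, hy, rfl⟩
  obtain ⟨x, hx, rfl⟩ := hx
  exact h.sj.comm.2 (A8.A_comm y hy x hx)

theorem pA : IsPGroup 2 (A0.map h.jb) := h.sj.syl.isPGroup.to_le (map_le_range _ _)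

theorem ctl {a b : X} (ha : a ∈ A0.map h.jb) (hb : b ∈ A0.map h.jb) (e : IsConj a b) :
    ∃ g ∈ Nor (A0.map h.jb), g * a * g⁻¹ = b := by
  obtain ⟨P, hP, hA⟩ := exists_isSylowOf_ge h.pA (le_inf le_top (h.AC hb))
  obtain ⟨g, -, e1, e2⟩ := ext0 hP h.pA (le_inf le_top (h.AC ha)) (cj_top.2 e)
  obtain ⟨d, -, e3⟩ := h.sj.syl.exists_conj_le hP.isPGroup le_top
  have h1 := h.sj.wc fun a ha => e3 (conj_mem_conjS (hA ha))
  have h2 := h.sj.wc (g := d * g) fun a ha => mem_of_eq (e3 (conj_mem_conjS (e2 a ha))) (by group)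
  exact ⟨g, mem_of_eq (mul_mem (inv_mem h1) h2) (by group), e1⟩

theorem ptA (k : Fin 5) : h.jb (pt k) ∈ A0.map h.jb :=
  mem_map_of_mem _ ((by decide : ∀ k, inA (pt k) = true) k)

theorem zc1 {k : Fin 5} {x : A8.S0} (hx : inA x = true) (e : IsConj (h.jb (pt k)) (h.jb x)) :
    ∃ l, x = pt l :=
  (sing x hx (h.sq e ((by decide : ∀ k, sec (pt k) * sec (pt k) = 1) k))).resolve_left
    (h.sj.sq_of (h.sj.ord ((by decide : ∀ k, pt k * pt k = 1) k)
      ((by decide : ∀ k, pt k ≠ 1) k)) e).2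

end Qt

/-- the action on five points -/
def Ac {Y : Type*} [Group Y] (p : Fin 5 → Y) (n : Y) (π : Perm (Fin 5)) : Prop :=
  ∀ k, n * p k * n⁻¹ = p (π k)

namespace Ac

variable {Y : Type*} [Group Y] {p : Fin 5 → Y} {n m : Y} {π τ : Perm (Fin 5)}

theorem one (p : Fin 5 → Y) : Ac p 1 1 := fun k => by simp
theorem mul (a : Ac p n π) (b : Ac p m τ) : Ac p (n * m) (π * τ) := fun k => by
  rw [Perm.mul_apply, ← a, ← b]; group
theorem inv (a : Ac p n π) : Ac p n⁻¹ π⁻¹ := fun k => by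
  rw [← π.apply_symm_apply k, ← a]; simp [mul_assoc]
theorem pow (a : Ac p n π) (k : ℕ) : Ac p (n ^ k) (π ^ k) := by
  induction k with
  | zero => simpa using one p
  | succ k ih => rw [pow_succ, pow_succ]; exact ih.mul a
theorem uniq (hp : Function.Injective p) (a : Ac p n π) (b : Ac p n τ) : π = τ :=
  Equiv.ext fun k => hp ((a k).symm.trans (b k))

/-- the permutations induced by a subgroup -/
def img (p : Fin 5 → Y) (D : Subgroup Y) : Subgroup (Perm (Fin 5)) where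
  carrier := {π | ∃ d ∈ D, Ac p d π}
  one_mem' := ⟨1, one_mem _, one p⟩
  mul_mem' := fun ⟨a, ha, e⟩ ⟨b, hb, e'⟩ => ⟨_, mul_mem ha hb, e.mul e'⟩
  inv_mem' := fun ⟨a, ha, e⟩ => ⟨_, inv_mem ha, e.inv⟩

/-- the elements inducing permutations from a subgroup -/
def pre (p : Fin 5 → Y) (B : Subgroup (Perm (Fin 5))) : Subgroup Y where
  carrier := {d | ∃ π ∈ B, Ac p d π}
  one_mem' := ⟨1, one_mem _, one p⟩
  mul_mem' := fun ⟨a, ha, e⟩ ⟨b, hb, e'⟩ => ⟨_, mul_mem ha hb, e.mul e'⟩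
  inv_mem' := fun ⟨a, ha, e⟩ => ⟨_, inv_mem ha, e.inv⟩

end Ac

/-- the four-group -/
def V4 : Subgroup (Perm (Fin 5)) where
  carrier := {π | ∃ p q, π = vv p q}
  one_mem' := ⟨false, false, rfl⟩
  mul_mem' := by rintro _ _ ⟨p, q, rfl⟩ ⟨p', q', rfl⟩; exact ⟨_, _, (vv_mul ..).1⟩
  inv_mem' := by
    rintro _ ⟨p, q, rfl⟩
    exact ⟨p, q, inv_eq_of_mul_eq_one_right (by rw [(vv_mul ..).1, Bool.xor_self, Bool.xor_self]; rfl)⟩

namespace Qt

variable (h : Qt j f)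
include h

/-- the five singular vectors -/
abbrev P (k : Fin 5) : X := h.jb (pt k)

theorem P_inj : Function.Injective h.P := h.sj.inj.comp (by decide)

theorem ex {n : X} (hn : n ∈ Nor (A0.map h.jb)) : ∃ π, Ac h.P n π := by
  have : ∀ k, ∃ l, n * h.P k * n⁻¹ = h.P l := fun k => by
    obtain ⟨x, hx, e⟩ := cmem hn (h.ptA k)
    obtain ⟨l, rfl⟩ := h.zc1 hx (e ▸ isConj_mk n _)
    exact ⟨l, e.symm⟩
  choose π hπ using this
  exact ⟨Equiv.ofBijective π (Finite.injective_iff_bijective.1 fun k l e => h.P_inj (by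
    have := (hπ k).trans (e ▸ (hπ l).symm)
    simpa using this)), hπ⟩

theorem acS (s : A8.S0) : Ac h.P (h.jb s) (vv s.p s.q) := fun k => by
  rw [← map_inv, ← map_mul, ← map_mul, act_S]

theorem acV (p q : Bool) : ∃ s, Ac h.P s (vv p q) := ⟨_, h.acS ⟨false, false, false, false, p, q⟩⟩

theorem cenA {n : X} (a : Ac h.P n 1) : n ∈ Cen (A0.map h.jb) := by
  rw [cen_iff_le]
  rintro _ ⟨y, hy, rfl⟩
  have k : ∀ (c : Bool) k, h.jb (pw c (pt k)) ∈ Cen1 n := fun c k => by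
    cases c
    exacts [map_one h.jb ▸ one_mem _, c1s.1 (c1'.2 (a k))]
  rw [(by decide : ∀ y, inA y = true → y = pw y.a (pt 0) * pw y.b (pt 1) * pw y.c (pt 2) *
    pw y.d (pt 3)) y hy, map_mul, map_mul, map_mul]
  exact mul_mem (mul_mem (mul_mem (k _ _) (k _ _)) (k _ _)) (k _ _)

theorem fratt {n : X} {π : Perm (Fin 5)} (a : Ac h.P n π) (e : π 4 = 4) :
    ∃ m ∈ Nor h.jb.range, ∃ p q, Ac h.P m (vv p q * π) := by
  obtain ⟨k, hk, e1⟩ := (h.sj.syl.of_le (H := Ac.pre h.P V4) (by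
    rintro _ ⟨s, rfl⟩; exact ⟨_, ⟨_, _, rfl⟩, h.acS s⟩) le_top).frattini (g := n) (mnor (by
      rintro k ⟨_, ⟨p, q, rfl⟩, b⟩
      exact ⟨_, (vv_nor π e p q), (a.mul b).mul a.inv⟩))
  obtain ⟨_, ⟨p, q, rfl⟩, b⟩ := inv_mem hk
  exact ⟨_, e1, p, q, b.mul a⟩

theorem even4 {n : X} {π : Perm (Fin 5)} (a : Ac h.P n π) (e : π 4 = 4) : Perm.sign π = 1 := by
  obtain ⟨m, hm, p, q, b⟩ := h.fratt a e
  obtain ⟨_, ⟨s, rfl⟩, y, -, o, rfl⟩ := A8.odd_part h.sj.syl (mem_top m) hm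
  have c := ((h.acS s).inv.mul b).pow (orderOf y)
  rw [inv_mul_cancel_left, pow_orderOf_eq_one] at c
  have := congrArg Perm.sign (c.uniq h.P_inj (Ac.one _))
  rw [map_pow, map_mul, map_mul, map_inv, (vv_mul _ _ p q).2.1, (vv_mul _ _ p q).2.1] at this
  rcases Int.units_eq_one_or (Perm.sign π) with e | e
  · exact e
  · simp [e, o.neg_one_pow] at this

theorem ex0 : ∃ g π, Ac h.P g π ∧ π 4 = 0 := by
  obtain ⟨g, hg, e⟩ := h.ctl (h.ptA 4) (h.ptA 0) (by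
    rw [jb_pt, jb_pt]; exact f.map_isConj h.fus)
  obtain ⟨π, a⟩ := h.ex hg
  exact ⟨g, π, a, h.P_inj ((a 4).symm.trans e)⟩

theorem even {n : X} {π : Perm (Fin 5)} (a : Ac h.P n π) : Perm.sign π = 1 := by
  obtain ⟨g, τ, b, e⟩ := h.ex0
  have k : ∀ {n π}, Ac h.P n π → π 4 ≠ 4 → Perm.sign π = Perm.sign τ := fun {n π} a c => by
    obtain ⟨p, q, e1⟩ := vv_tr _ c
    obtain ⟨s, d⟩ := h.acV p q
    have := h.even4 (b.inv.mul (d.mul a)) (by
      rw [Perm.mul_apply, Perm.mul_apply, e1, ← e]; simp)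
    rwa [map_mul, map_mul, (vv_mul _ _ p q).2.1, one_mul, map_inv, inv_mul_eq_one, eq_comm] at this
  by_cases c : π 4 = 4
  · exact h.even4 a c
  · obtain ⟨p, q, e1⟩ := vv_sq τ e
    obtain ⟨s, d⟩ := h.acV p q
    rw [k a c, ← k ((b.mul d).mul b) e1, map_mul, map_mul, (vv_mul _ _ p q).2.1, mul_one,
      Int.units_mul_self]

theorem all {π : Perm (Fin 5)} (e : Perm.sign π = 1) : ∃ n, Ac h.P n π := by
  obtain ⟨g, τ, b, e0⟩ := h.ex0
  have v : ∀ p q, vv p q ∈ Ac.img h.P ⊤ := fun p q => (h.acV p q).imp fun _ a => ⟨mem_top _, a⟩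
  have t : τ ∈ Ac.img h.P ⊤ := ⟨g, mem_top _, b⟩
  obtain ⟨p, q, p', q', p'', q'', e1⟩ := c3_mem τ e0 (h.even b)
  obtain ⟨n, -, a⟩ := a5_gen (B := Ac.img h.P ⊤) (mul_one v1 ▸ v true false) (e1 ▸ mul_mem (mul_mem
    (mul_mem (mul_mem (v _ _) t) (v _ _)) t) (v _ _)) e
  exact ⟨n, a⟩

theorem pcj (k : Fin 5) : IsConj (h.P 0) (h.P k) := by
  obtain ⟨π, e, e0, -⟩ := pair_tr k (k + 1) (by revert k; decide)
  obtain ⟨n, a⟩ := h.all e
  exact isConj_iff.2 ⟨n, e0 ▸ a 0⟩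

theorem tcj {m : X} (hm : m ∈ Nor h.jb.range) {π : Perm (Fin 5)} (a : Ac h.P m π) {p q : Bool}
    (e : ∀ p' q', π * v1 * π⁻¹ = vv p' q' → p' = p ∧ q' = q) (hq : q = true) :
    IsConj (h.jb A8.t1) (h.jb ⟨false, false, false, false, p, q⟩) := by
  obtain ⟨s, hs⟩ := cmem hm ⟨A8.t1, rfl⟩
  have c : IsConj (h.jb A8.t1) (h.jb s) := hs ▸ isConj_mk m _
  obtain ⟨e1, e2⟩ := e _ _ (((a.mul (mul_one v1 ▸ h.acS A8.t1)).mul a.inv).uniq h.P_inj
    (hs ▸ h.acS s))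
  obtain ⟨d, hd⟩ := out_cl s (h.sj.sq_of (h.sj.ord (by decide) (by decide)) c).1
    (by simp [inA, e2, hq])
  rw [e1, e2] at hd
  exact c.trans (A8.cjS h.jb hd).isConj

theorem t123 : IsConj (h.jb A8.t1) (h.jb A8.t2) ∧ IsConj (h.jb A8.t1) (h.jb (A8.t1 * A8.t2)) := by
  obtain ⟨n, a⟩ := h.all (π := e3) (by decide)
  obtain ⟨m, hm, p, q, b⟩ := h.fratt a (by decide)
  exact ⟨h.tcj hm b (e3_v1 p q) rfl, h.tcj (inv_mem hm) b.inv (e3_v1' p q) rfl⟩

theorem nt1 : ¬ IsConj (h.jb A8.t1) (h.P 4) := fun e => by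
  obtain ⟨g, -, e1, e2⟩ := ext0 (P := h.jb.range) (X := h.jb.range ⊓ Cen1 (h.jb A8.t1))
    (h.sj.syl.of_le (le_inf le_top h.sj.SH) le_top) (h.sj.syl.isPGroup.to_le inf_le_left)
    (inf_le_inf_right _ le_top) (cj_top.2 e)
  obtain ⟨g, rfl⟩ := h.surj g
  have t : h.jb A8.t1 = f (j t1) := congrArg (fun x => f (j x)) (by decide)
  have k : ∀ c, c * t1 * c⁻¹ = t1 ∨ c * t1 * c⁻¹ = t1 * z0 → ∃ c', j c' = g * j c * g⁻¹ :=
    fun c hc => h.mem_S.1 (by
      rw [map_mul, map_mul, map_inv]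
      refine e2 _ ⟨h.mem_S.2 ⟨c, rfl⟩, c1'.2 ?_⟩
      rw [t, ← map_inv, ← map_mul, ← map_mul, ← map_inv, ← map_mul, ← map_mul, h.fe, ← map_mul,
        h.inj.eq_iff, h.inj.eq_iff]
      exact hc)
  obtain ⟨x, hx, hx2⟩ := ex_x1
  obtain ⟨x', hx'⟩ := k x (.inr hx)
  rw [t, show h.jb A8.z0 = _ from h.jb_pt 4, ← map_inv, ← map_mul, ← map_mul, h.fe, ← map_mul] at e1
  have zz : g * j z0 * g⁻¹ = j z0 := by rw [h.cen, mul_inv_cancel_right]
  have c : ∀ {a b a' b' : T0}, j a' = g * j a * g⁻¹ → j b' = g * j b * g⁻¹ →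
      j (a' * b') = g * j (a * b) * g⁻¹ := fun e e' => by rw [map_mul, map_mul, e, e', conj_mul]
  have ci : j x'⁻¹ = g * j x⁻¹ * g⁻¹ := by rw [map_inv, hx', map_inv, conj_inv]
  have h1 := cnt12 x' fun e => by
    rcases e1 with e1 | e1 <;> have := c (c hx' e1.symm) ci <;>
      rw [hx, ← c e1.symm zz.symm, h.inj.eq_iff] at this
    · rw [e, mul_inv_cancel_right] at this; exact absurd this (by decide)
    · rw [← mul_assoc, e, mul_assoc _ x', z_comm, mul_assoc, mul_inv_cancel_right] at this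
      exact absurd this (by decide)
  have h2 := card_img_le h.inj (fun c => c * c = 1 ∧ c * (x' * c * x'⁻¹) = x' * c * x'⁻¹ * c)
    (A := (· ∈ conjS g (j.range ⊓ Cen1 (j t1)))) (by
    rintro _ ⟨_, ⟨⟨a, rfl⟩, ha⟩, rfl⟩
    have ha := h.comm.1 ha
    obtain ⟨a', ha'⟩ := k a (.inl (mul_inv_eq_iff_eq_mul.2 ha))
    have b := c (c hx' ha') ci
    refine ⟨a', ⟨h.inj ?_, h.inj ?_⟩, ha'⟩
    · rw [c ha' ha', (cenF a ha).1]; simp
    · rw [c ha' b, c b ha', (cenF a ha).2 (x * a * x⁻¹) (hx2 a ha)])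
  change Nat.card (conjS g _) ≤ _ at h2
  rw [card_conjS, h.card_cen, cc_t1] at h2
  omega

theorem hy : Hy h.jb := by
  have zc : ∀ x, inA x = true → (IsConj (h.jb A8.z0) (h.jb x) ↔ isZ x = true) := fun x hx =>
    ⟨fun e => (isZ_iff x).2 (h.zc1 (k := 4) hx e), fun e => by
      obtain ⟨k, rfl⟩ := (isZ_iff x).1 e
      exact (h.pcj 4).symm.trans (h.pcj k)⟩
  refine ⟨h.sj, fun x y hx e => ?_, zc, fun x hx x1 e => ?_, h.t123.1, h.t123.2⟩
  · by_contra hy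
    have y1 : y ≠ 1 := fun c => hy (c ▸ rfl)
    have x1 : x ≠ 1 := fun c => h.sj.ne1 y1 (by rwa [c, map_one, isConj_one_right] at e)
    obtain ⟨d, hd⟩ := out_cl y (h.sj.sq_of (h.sj.ord (A8.A_sq x hx) x1) e).1 (by simpa using hy)
    have c : IsConj (h.jb A8.t1) (h.jb x) := by
      refine IsConj.trans ?_ (e.trans (A8.cjS h.jb hd).isConj).symm
      cases hp : y.p <;> cases hq : y.q
      exacts [absurd (by simp [inA, hp, hq]) hy, h.t123.1, IsConj.refl _, h.t123.2]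
    obtain ⟨k, rfl⟩ := (sing x hx (h.sq c (by decide))).resolve_left x1
    exact h.nt1 (c.trans ((h.pcj k).symm.trans (h.pcj 4)))
  · obtain ⟨k, l, kl, rfl⟩ := nsing x hx x1 e
    obtain ⟨π, e', rfl, rfl⟩ := pair_tr k l kl
    obtain ⟨n, a⟩ := h.all e'
    exact isConj_iff.2 ⟨n, by
      rw [map_mul, show A8.a0 = pt 0 * pt 1 from rfl, map_mul, ← conj_mul, a 0, a 1]⟩

/-- the five involutions -/
abbrev R (j : T0 →* G) (k : Fin 5) : G := j (pp k)

theorem down {g : G} {π : Perm (Fin 5)} (a : Ac (R j) g π) : Ac h.P (f g) π := fun k => by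
  rw [P, P, jb_pt, jb_pt, ← map_inv, ← map_mul, ← map_mul, a k]

theorem up {π : Perm (Fin 5)} (e : Perm.sign π = 1) : ∃ g, Ac (R j) g π := by
  obtain ⟨n, a⟩ := h.all e
  obtain ⟨g, rfl⟩ := h.surj n
  have : ∀ k, ∃ c : Bool, g * j (pp k * pw c z0) * g⁻¹ = j (pp (π k)) := fun k => by
    have := a k
    rw [P, P, jb_pt, jb_pt, ← map_inv, ← map_mul, ← map_mul, eq_comm, h.fe] at this
    rcases this with e | e
    · exact ⟨false, by rw [e]; simp [pw]⟩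
    · exact ⟨true, by rw [e, map_mul, mul_assoc _ g⁻¹, h.cen]; simp [pw, mul_assoc]⟩
  choose c hc using this
  obtain ⟨q, -, q0, q1, q2, q3⟩ := adjQ (c 0) (c 1) (c 2) (c 3)
  have k : ∀ k, q * (pp k * pw (c k) z0) = pp k * q →
      g * j q⁻¹ * R j k * (g * j q⁻¹)⁻¹ = R j (π k) := fun k e => by
    rw [R, R, ← hc, eq_inv_mul_iff_mul_eq.2 e]; simp [mul_assoc]
  refine ⟨g * j q⁻¹, fun l => ?_⟩
  fin_cases l
  exacts [k 0 q0, k 1 q1, k 2 q2, k 3 q3, by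
    change _ * j (pp 4) * _ = j (pp (π 4))
    rw [← prod5 π e, show pp 4 = pp 0 * pp 1 * pp 2 * pp 3 by decide]
    simp only [map_mul j, ← conj_mul, k 0 q0, k 1 q1, k 2 q2, k 3 q3]]

variable (hO : pPrimeCore 2 G = ⊥)
include hO

theorem nor : ⊤ ≤ Nor (A0.map h.jb) := h.hy.main (core_central f h.surj hO h.cen h.ker)

theorem inQ {g : G} (a : Ac h.P (f g) 1) : g ∈ Q1.map j := by
  have s : IsSylowOf 2 (A0.map h.jb) (Cen (A0.map h.jb)) := by
    have := h.sj.syl.inf_of_le_normalizer le_top (le_top.trans (ncen (h.nor hO)))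
    convert this
    refine le_antisymm (le_inf (map_le_range _ _) fun x hx => cen_iff_le.2 (h.AC hx)) ?_
    rintro _ ⟨⟨y, rfl⟩, hy⟩
    exact mem_map_of_mem _ ((by decide : ∀ y, y * pt 0 = pt 0 * y → inA y = true) y
      (h.sj.comm.1 (c1.2 (GW.cen.1 hy _ (h.ptA 0)))))
  have := (Burnside_normal_complement s inf_le_left).sup.ge (h.cenA a)
  rw [eq_bot_iff.2 ((le_Oo le_top ((ncen (h.nor hO)).trans (nOo _)) (odd_Oo _)).trans
    ((pPrimeCoreIn_top 2).trans (core_central f h.surj hO h.toCZ.cen h.ker)).le), bot_sup_eq]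
    at this
  exact h.mem_A.1 this

theorem triv {g : G} (a : Ac (R j) g 1) : g = 1 ∨ g = j z0 := by
  obtain ⟨q, -, rfl⟩ := h.inQ hO (h.down a)
  exact (cenQ q fun k => h.comm.1 (c1'.2 (a k))).imp (fun e => by rw [e, map_one]) (congrArg j)

theorem rel : ∃ x y, Rel j x y := by
  obtain ⟨y, a⟩ := h.up (π := c3) (by decide)
  have y3 : y ^ 4 * (y ^ 4 * y ^ 4) = 1 := by
    rw [show y ^ 4 * (y ^ 4 * y ^ 4) = y ^ 3 * y ^ 3 * (y ^ 3 * y ^ 3) by group]
    rcases h.triv hO ((by decide : c3 ^ 3 = 1) ▸ a.pow 3) with e | e <;> simp [e, h.zz]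
  have a' : Ac (R j) (y ^ 4) c3 := (by decide : c3 ^ 4 = c3) ▸ a.pow 4
  generalize y ^ 4 = y at y3 a'
  have b : Ac (R j) (j t1) v1 := fun k => by
    rw [← map_mul, act_t1, map_mul, mul_inv_cancel_right]
  have tt : j t1 * j t1 = 1 := by rw [← map_mul]; exact map_one j
  rcases h.triv hO ((by decide : (v1 * c3) ^ 5 = 1) ▸ (b.mul a').pow 5) with e | e
  · exact ⟨_, _, tt, y3, e, b, a'⟩
  · have c : Commute (j z0) (j t1 * y) := (h.toCZ.cen _).symm
    refine ⟨j z0 * j t1, y, ?_, y3, ?_, fun k => ?_, a'⟩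
    · rw [mul_assoc, ← mul_assoc (j t1), h.toCZ.cen, mul_assoc, tt, mul_one, h.zz]
    · rw [mul_assoc, c.mul_pow, e, ← pow_succ, show 5 + 1 = 2 * 3 from rfl, pow_mul, _root_.sq, h.zz,
        one_pow]
    · rw [show j z0 * j t1 * j (pp k) * (j z0 * j t1)⁻¹ = j z0 * (j t1 * j (pp k) * (j t1)⁻¹) *
        (j z0)⁻¹ by group, b k, ← h.toCZ.cen, mul_inv_cancel_right]

theorem gen {x y : G} (r : Rel j x y) : Q1.map j ⊔ zpowers x ⊔ zpowers y = ⊤ := by
  refine eq_top_iff.2 fun g _ => ?_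
  obtain ⟨π, a⟩ := h.ex (h.nor hO (mem_top (f g)))
  obtain ⟨d, hd, b⟩ := a5_gen (B := Ac.img (R j) (Q1.map j ⊔ zpowers x ⊔ zpowers y))
    ⟨x, mem_sup_left (mem_sup_right (mem_zpowers x)), r.ax⟩
    ⟨y, mem_sup_right (mem_zpowers y), r.ay⟩ (h.even a)
  have := (h.down b).inv.mul a
  rw [inv_mul_cancel, ← map_inv, ← map_mul] at this
  exact (mul_mem_cancel_left (inv_mem hd)).1 (mem_sup_left (mem_sup_left (h.inQ hO this)))

omit hO in
theorem card_ge : 60 * 32 ≤ Nat.card G := by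
  choose n hn using fun π : alternatingGroup (Fin 5) => h.up (π := π) π.2
  have q : ∀ q ∈ Q1.map j, Ac h.P (f q) 1 := fun q hq k =>
    c1'.1 (h.AC (h.ptA k) (h.mem_A.2 hq))
  have := Nat.card_le_card_of_injective (fun x : alternatingGroup (Fin 5) × Q1.map j =>
    n x.1 * x.2) (by
    rintro ⟨π, a⟩ ⟨τ, b⟩ e
    have h1 := (h.down (hn π)).mul (q _ a.2)
    have h2 := (h.down (hn τ)).mul (q _ b.2)
    change n π * a = n τ * b at e
    rw [← map_mul, mul_one] at h1 h2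
    obtain rfl : π = τ := Subtype.ext (h1.uniq h.P_inj (e ▸ h2))
    exact Prod.ext rfl (Subtype.ext (mul_left_cancel e)))
  rwa [Nat.card_prod, card_map_of_injective h.inj, card_Q1, nat_card_alternatingGroup,
    Nat.card_eq_fintype_card, Fintype.card_fin] at this

end Qt

theorem CZ.qt (h : CZ j) : ∃ (X : Type u) (_ : Group X) (_ : Finite X) (f : G →* X), Qt j f :=
  have : (zpowers (j z0)).Normal := normal_zp h.cen
  ⟨_, _, inferInstance, QuotientGroup.mk' (zpowers (j z0)), h, QuotientGroup.mk'_surjective _,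
    QuotientGroup.ker_mk' _⟩

theorem CZ.card_ge (h : CZ j) : 60 * 32 ≤ Nat.card G := by
  obtain ⟨_, _, _, f, q⟩ := h.qt
  exact q.card_ge

theorem CZ.data (h : CZ j) (hO : pPrimeCore 2 G = ⊥) :
    ∃ x y, Rel j x y ∧ Q1.map j ⊔ zpowers x ⊔ zpowers y = ⊤ := by
  obtain ⟨_, _, _, f, q⟩ := h.qt
  obtain ⟨x, y, r⟩ := q.rel hO
  exact ⟨x, y, r, q.gen hO r⟩

theorem bij {D : Type*} [Group D] [Finite D] {i : T0 →* D} {a b : D} {x y : G}
    (c : Nat.card ↥(Q1.map i ⊔ zpowers a ⊔ zpowers b) ≤ 60 * 32) (h : CZ j)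
    (g : Q1.map j ⊔ zpowers x ⊔ zpowers y = ⊤) (f : D →* G) (e1 : f.comp i = j) (e2 : f a = x)
    (e3 : f b = y) : Function.Bijective (f.comp (Q1.map i ⊔ zpowers a ⊔ zpowers b).subtype) :=
  (Nat.bijective_iff_surjective_and_card _).2 (by
    have s : Function.Surjective (f.comp (Q1.map i ⊔ zpowers a ⊔ zpowers b).subtype) := by
      rw [← MonoidHom.range_eq_top, MonoidHom.range_comp, range_subtype, Subgroup.map_sup,
        Subgroup.map_sup, map_map, MonoidHom.map_zpowers, MonoidHom.map_zpowers, e1, e2, e3, g]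
    exact ⟨s, le_antisymm (c.trans h.card_ge) (Nat.card_le_card_of_surjective _ s)⟩)

theorem CZ.iso {P : Type*} [Group P] [Finite P] {j' : T0 →* P} (h : CZ j) (h' : CZ j')
    (hO : pPrimeCore 2 G = ⊥) (hO' : pPrimeCore 2 P = ⊥) : Nonempty (G ≃* P) := by
  obtain ⟨x, y, r, g⟩ := h.data hO
  obtain ⟨x', y', r', g'⟩ := h'.data hO'
  have c := Rel.card (j := j.prod j') (x := (x, x')) (y := (y, y')) ⟨Prod.ext r.xx r'.xx,
    Prod.ext r.yy r'.yy, Prod.ext r.xy r'.xy, fun k => Prod.ext (r.ax k) (r'.ax k),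
    fun k => Prod.ext (r.ay k) (r'.ay k)⟩
  exact ⟨(MulEquiv.ofBijective _ (bij c h g (MonoidHom.fst G P) rfl rfl rfl)).symm.trans
    (MulEquiv.ofBijective _ (bij c h' g' (MonoidHom.snd G P) rfl rfl rfl))⟩

end JJ
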