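import Cfsg.Agent.A8.N

/-! The Sylow 2-subgroup of `J₂` in coordinates. -/

set_option autoImplicit false

namespace JJ

open Equiv

/-- fast exclusive or -/
def bx (a b : Bool) : Bool := Bool.rec b (Bool.rec true false b) a
/-- fast conjunction -/
def ba (a b : Bool) : Bool := Bool.rec false b a
/-- the cocycle of the quaternion group -/
def coc (a b c d : Bool) : Bool := bx (ba (bx a b) c) (ba b d)

/-- monomial matrices `diag(q₁, ± q₂, ± q₃) σ ^ s` modulo sign -/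
structure T0 where
  e : Bool
  f : Bool
  a : Bool
  b : Bool
  c : Bool
  d : Bool
  s : Bool
  deriving DecidableEq

namespace T0

def sw (s : Bool) (y : T0) : T0 := Bool.rec y ⟨y.f, y.e, y.c, y.d, y.a, y.b, y.s⟩ s
def k1 (x y : T0) : Bool := coc (bx x.a x.c) (bx x.b x.d) (bx y.a y.c) (bx y.b y.d)
def ml (x y : T0) : T0 := ⟨bx (bx x.e y.e) (bx (coc x.a x.b y.a y.b) (k1 x y)),
  bx (bx x.f y.f) (bx (coc x.c x.d y.c y.d) (k1 x y)), bx x.a y.a, bx x.b y.b, bx x.c y.c,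
  bx x.d y.d, bx x.s y.s⟩

instance instMulT0 : Mul T0 := ⟨fun x y => ml x (sw x.s y)⟩
instance instOneT0 : One T0 := ⟨⟨false, false, false, false, false, false, false⟩⟩
instance instInvT0 : Inv T0 := ⟨fun x => sw x.s ⟨bx x.e (bx (coc x.a x.b x.a x.b) (k1 x x)),
  bx x.f (bx (coc x.c x.d x.c x.d) (k1 x x)), x.a, x.b, x.c, x.d, x.s⟩⟩

theorem mul_def (x y : T0) : x * y = ml x (sw x.s y) := rfl

/-- coordinates -/
def equivProd : Bool × Bool × Bool × Bool × Bool × Bool × Bool ≃ T0 where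
  toFun x := ⟨x.1, x.2.1, x.2.2.1, x.2.2.2.1, x.2.2.2.2.1, x.2.2.2.2.2.1, x.2.2.2.2.2.2⟩
  invFun x := (x.e, x.f, x.a, x.b, x.c, x.d, x.s)
  left_inv _ := rfl
  right_inv _ := rfl

instance instFintypeT0 : Fintype T0 := Fintype.ofEquiv _ equivProd

theorem bx_as : ∀ a b c, bx (bx a b) c = bx a (bx b c) := by decide
theorem bx7 : ∀ e e' e'' a b c d, bx a c = bx b d →
    bx (bx (bx (bx e e') a) e'') c = bx (bx e (bx (bx e' e'') b)) d := by decide
theorem coc_id : ∀ a b c d a' b' c' d' a'' b'' c'' d'' : Bool,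
    bx (bx (coc a b a' b') (coc (bx a c) (bx b d) (bx a' c') (bx b' d')))
      (bx (coc (bx a a') (bx b b') a'' b'') (coc (bx (bx a a') (bx c c')) (bx (bx b b') (bx d d'))
        (bx a'' c'') (bx b'' d''))) =
    bx (bx (coc a' b' a'' b'') (coc (bx a' c') (bx b' d') (bx a'' c'') (bx b'' d'')))
      (bx (coc a b (bx a' a'') (bx b' b'')) (coc (bx a c) (bx b d) (bx (bx a' a'') (bx c' c''))
        (bx (bx b' b'') (bx d' d'')))) := by decide +kernel
theorem bx_cm : ∀ a b, bx a b = bx b a := by decide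
theorem k1_sw (x y : T0) : k1 (sw true x) (sw true y) = k1 x y := by
  simp only [k1, sw, bx_cm x.c, bx_cm x.d, bx_cm y.c, bx_cm y.d]
theorem sw_ml (s : Bool) (x y : T0) : sw s (ml x y) = ml (sw s x) (sw s y) := by
  cases s
  · rfl
  · rw [ml, ml, k1_sw]; rfl
theorem sw_sw : ∀ s s' x, sw (bx s s') x = sw s (sw s' x) := by decide +kernel
theorem sw_s : ∀ s x, (sw s x).s = x.s := by decide +kernel
theorem ml_as (x y w : T0) : ml (ml x y) w = ml x (ml y w) := by
  simp only [ml, T0.mk.injEq, bx_as x.a, bx_as x.b, bx_as x.c, bx_as x.d, bx_as x.s, and_true]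
  refine ⟨bx7 _ _ _ _ _ _ _ (coc_id ..), bx7 _ _ _ _ _ _ _ ?_⟩
  have := coc_id x.c x.d x.a x.b y.c y.d y.a y.b w.c w.d w.a w.b
  simp only [k1, bx_cm x.a x.c, bx_cm x.b x.d, bx_cm y.a y.c, bx_cm y.b y.d, bx_cm w.a w.c,
    bx_cm w.b w.d, bx_cm (bx x.a y.a), bx_cm (bx x.b y.b), bx_cm (bx y.a w.a),
    bx_cm (bx y.b w.b)]
  exact this

instance instGroupT0 : Group T0 := Group.ofLeftAxioms (fun x y w => by
  rw [mul_def, mul_def, mul_def, mul_def, sw_ml, ml_as, ← sw_sw]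
  congr 3
  exact congrArg (bx x.s) (sw_s _ _)) (by decide +kernel) (by decide +kernel)

theorem card_T0 : Fintype.card T0 = 128 := by decide +kernel

end T0

def z0 : T0 := ⟨true, true, false, false, false, false, false⟩
def t1 : T0 := ⟨false, true, true, true, false, true, false⟩
def t2 : T0 := ⟨false, false, true, false, true, true, false⟩
def pp : Fin 5 → T0 := ![⟨false, false, false, false, false, false, true⟩,
  ⟨true, false, true, false, true, false, true⟩, ⟨false, true, false, true, false, true, true⟩,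
  ⟨true, false, true, true, true, true, true⟩, ⟨true, false, false, false, false, false, false⟩]
def pt : Fin 5 → A8.S0 := ![⟨true, false, false, false, false, false⟩,
  ⟨false, true, false, false, false, false⟩, ⟨false, false, true, false, false, false⟩,
  ⟨false, false, false, true, false, false⟩, A8.z0]
def inT (x : T0) : Bool := !x.s
def inQ (x : T0) : Bool := x.a == x.c && x.b == x.d
def T1 : Subgroup T0 := A8.sub inT (by decide +kernel)
def Q1 : Subgroup T0 := A8.sub inQ (by decide +kernel)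

/-- optional factor -/
def pw {M : Type*} [One M] (b : Bool) (g : M) : M := bif b then g else 1

/-- the section -/
def sec (y : A8.S0) : T0 :=
  pw y.a (pp 0) * pw y.b (pp 1) * pw y.c (pp 2) * pw y.d (pp 3) * pw y.p t1 * pw y.q t2

theorem sec_mul : ∀ x y, sec (x * y) = sec x * sec y ∨ sec (x * y) = sec x * sec y * z0 := by
  decide +kernel
theorem sec_surj : ∀ x, ∃ y, x = sec y ∨ x = sec y * z0 := by decide +kernel
theorem sec_inj : ∀ y, sec y = 1 ∨ sec y = z0 → y = 1 := by decide +kernel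
theorem sec_pt : ∀ k, sec (pt k) = pp k := by decide +kernel
theorem sec_Q : ∀ y, inQ (sec y) = A8.inA y ∧ inQ (sec y * z0) = A8.inA y := by decide +kernel
theorem z_comm : ∀ x, x * z0 = z0 * x := by decide +kernel
theorem zS : ∀ c : T0, (∀ d, d * c = c * d) → c = 1 ∨ c = z0 := by decide +kernel
theorem sing : ∀ y, A8.inA y = true → sec y * sec y = 1 → y = 1 ∨ ∃ k, y = pt k := by
  decide +kernel
theorem isZ_iff : ∀ y, A8.isZ y = true ↔ ∃ k, y = pt k := by decide +kernel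
theorem nsing : ∀ y, A8.inA y = true → y ≠ 1 → A8.isZ y = false →
    ∃ k l, k ≠ l ∧ y = pt k * pt l := by decide +kernel
theorem out_cl : ∀ y : A8.S0, y * y = 1 → A8.inA y = false → ∃ d, d * y * d⁻¹ =
    ⟨false, false, false, false, y.p, y.q⟩ := by decide +kernel
theorem cnt12 : ∀ x : T0, x * pp 4 ≠ pp 4 * x → (Finset.univ.filter fun c => c * c = 1 ∧
    c * (x * c * x⁻¹) = x * c * x⁻¹ * c).card < 16 := by decide +kernel
theorem cenF : ∀ c, c * t1 = t1 * c → c * c = 1 ∧ ∀ d, d * t1 = t1 * d → c * d = d * c := by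
  decide +kernel
theorem ex_x0 : ∃ x, x * t1 * x⁻¹ = t1 * z0 := by decide +kernel
theorem cc_t1 : A8.cc t1 = 16 := by decide +kernel
theorem adjQ : ∀ a b c d : Bool, ∃ q, inQ q = true ∧ q * (pp 0 * pw a z0) = pp 0 * q ∧
    q * (pp 1 * pw b z0) = pp 1 * q ∧ q * (pp 2 * pw c z0) = pp 2 * q ∧
    q * (pp 3 * pw d z0) = pp 3 * q := by decide +kernel
theorem cenQ : ∀ x, (∀ k, x * pp k = pp k * x) → x = 1 ∨ x = z0 := by decide +kernel
theorem genQ : ∀ x, inQ x = true → ∃ e a b c d : Bool,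
    x = pw e z0 * pw a (pp 0) * pw b (pp 1) * pw c (pp 2) * pw d (pp 3) := by decide +kernel

/-! the five points -/

def v1 : Perm (Fin 5) := swap 0 1 * swap 2 3
def v2 : Perm (Fin 5) := swap 0 2 * swap 1 3
def c3 : Perm (Fin 5) := swap 1 4 * swap 1 2
def e3 : Perm (Fin 5) := swap 1 3 * swap 1 2
def vv (p q : Bool) : Perm (Fin 5) := pw p v1 * pw q v2

theorem act_S : ∀ s : A8.S0, ∀ k, s * pt k * s⁻¹ = pt (vv s.p s.q k) := by decide +kernel
theorem act_t1 : ∀ k, t1 * pp k = pp (v1 k) * t1 := by decide +kernel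
theorem vv_nor : ∀ π : Perm (Fin 5), π 4 = 4 → ∀ p q, ∃ p' q', π * vv p q * π⁻¹ = vv p' q' := by
  decide +kernel
theorem vv_mul : ∀ p q p' q', vv p q * vv p' q' = vv (xor p p') (xor q q') ∧
    Perm.sign (vv p q) = 1 ∧ vv p q 4 = 4 := by decide +kernel
theorem vv_inj : ∀ p q p' q', vv p q = vv p' q' → p = p' ∧ q = q' := by decide +kernel
theorem vv_tr : ∀ k, k ≠ 4 → ∃ p q, vv p q k = 0 := by decide +kernel
theorem vv_sq : ∀ π : Perm (Fin 5), π 4 = 0 → ∃ p q, (π * vv p q * π) 4 ≠ 4 := by decide +kernel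
theorem c3_mem : ∀ π : Perm (Fin 5), π 4 = 0 → Perm.sign π = 1 → ∃ p q p' q' p'' q'',
    c3 = vv p q * π * vv p' q' * π * vv p'' q'' := by decide +kernel
theorem a5_nf : ∀ π : Perm (Fin 5), Perm.sign π = 1 → ∃ i : Fin 5, ∃ p q, ∃ k : Fin 3,
    π = (v1 * c3) ^ i.val * vv p q * e3 ^ k.val := by decide +kernel

theorem a5_gen {B : Subgroup (Perm (Fin 5))} (x : v1 ∈ B) (y : c3 ∈ B) {π : Perm (Fin 5)}
    (h : Perm.sign π = 1) : π ∈ B := by
  obtain ⟨i, p, q, k, rfl⟩ := a5_nf π h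
  have h1 : e3 ∈ B := by
    rw [show e3 = v1 * c3 * v1 * c3 * c3 * v1 * c3 * c3 by decide +kernel]
    exact B.mul_mem (B.mul_mem (B.mul_mem
      (B.mul_mem (B.mul_mem (B.mul_mem (B.mul_mem x y) x) y) y) x) y) y
  have h2 : v2 ∈ B := by
    rw [show v2 = c3 * v1 * c3 * c3 * v1 * c3 * v1 * c3 * c3 * v1 * c3 by decide +kernel]
    exact B.mul_mem (B.mul_mem (B.mul_mem
      (B.mul_mem (B.mul_mem (B.mul_mem (B.mul_mem (B.mul_mem (B.mul_mem (B.mul_mem y x) y) y) x) y) x) y) y) x) y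
  refine mul_mem (mul_mem (pow_mem (mul_mem x y) _) (mul_mem ?_ ?_)) (pow_mem h1 _)
  · cases p
    exacts [one_mem B, x]
  · cases q
    exacts [one_mem B, h2]

theorem pair_tr : ∀ k l : Fin 5, k ≠ l → ∃ π : Perm (Fin 5), Perm.sign π = 1 ∧ π 0 = k ∧ π 1 = l := by
  decide +kernel
theorem prod5 : ∀ π : Perm (Fin 5), Perm.sign π = 1 →
    pp (π 0) * pp (π 1) * pp (π 2) * pp (π 3) = pp (π 4) := by decide +kernel

theorem e3_v1 : ∀ p q p' q', vv p q * e3 * v1 * (vv p q * e3)⁻¹ = vv p' q' →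
    p' = false ∧ q' = true := by decide +kernel
theorem e3_v1' : ∀ p q p' q', (vv p q * e3)⁻¹ * v1 * (vv p q * e3)⁻¹⁻¹ = vv p' q' →
    p' = true ∧ q' = true := by decide +kernel

/-! fusion facts -/

theorem invT : ∀ s, inT s = true → s * s = 1 → s = 1 ∨ s = z0 ∨ (∃ d, d * pp 4 * d⁻¹ = s) ∨
    (A8.cc s = 16 ∧ ∀ c, c * s = s * c → c * c = 1) := by decide +kernel
theorem invS : ∀ s : T0, s * s = 1 → s = 1 ∨ s = z0 ∨ (∃ d, d * pp 4 * d⁻¹ = s) ∨ A8.cc s = 16 := by
  decide +kernel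
theorem sqS : ∀ y : T0, y * y * (y * y) = 1 → y * y = 1 ∨ y * y = z0 ∨
    ∃ d, d * pp 4 * d⁻¹ = y * y := by decide +kernel
theorem sq_p0 : ∃ y, y * pp 0 = pp 0 * y ∧ y * y = z0 := by decide +kernel
theorem sq_p4 : ∀ d, ∃ y, y * (d * pp 4 * d⁻¹) = d * pp 4 * d⁻¹ * y ∧ y * y = z0 := by
  decide +kernel
theorem cc_le : ∀ s : T0, s ≠ 1 → s ≠ z0 → A8.cc s ≤ A8.cc (pp 4) := by decide +kernel

end JJ
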