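import Cfsg.Agent.JJ.Mat
import Cfsg.Agent.JJ.T0

/-! Monomial elements of `J₂`. -/

set_option autoImplicit false

namespace JJ

open Cfsg.Spor Quaternion Matrix M

/-- the permutation part -/
def pm (s : Bool) (t : Fin 3) : Fin 3 := bif s then ![0, 2, 1] t else t
/-- the entries, coded -/
def qe (x : T0) : Fin 3 → Bool × Bool × Bool :=
  ![(false, bx x.a x.c, bx x.b x.d), (x.e, x.a, x.b), (x.f, x.c, x.d)]
def qm (u v : Bool × Bool × Bool) : Bool × Bool × Bool :=
  (bx (bx u.1 v.1) (coc u.2.1 u.2.2 v.2.1 v.2.2), bx u.2.1 v.2.1, bx u.2.2 v.2.2)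
def qw (u : Bool × Bool × Bool) : M := qv u.1 u.2.1 u.2.2
/-- the monomial matrix -/
def Mon (x : T0) : Mm := Matrix.of fun s t => if t = pm x.s s then qw (qe x s) else 0

theorem qw_mul : ∀ u v, qw u * qw v = qw (qm u v) := by decide +kernel
theorem qw_neg : ∀ u : Bool × Bool × Bool, qw (bx true u.1, u.2) = -qw u := by decide +kernel
theorem pm_mul : ∀ s s' t, pm (bx s s') t = pm s' (pm s t) := by decide
theorem qe_mul (x y : T0) (s : Fin 3) : qm (qe x s) (qe y (pm x.s s)) =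
    (bx (T0.k1 x (T0.sw x.s y)) (qe (x * y) s).1, (qe (x * y) s).2) := by
  have k : ∀ k e c, bx e c = bx k (bx e (bx c k)) := by decide
  have l : ∀ a b c d a' b' c' d', qm (false, bx a c, bx b d) (false, bx a' c', bx b' d') =
      (bx (coc (bx a c) (bx b d) (bx a' c') (bx b' d')) false, bx (bx a a') (bx c c'),
        bx (bx b b') (bx d d')) ∧ qm (false, bx a c, bx b d) (false, bx a' c', bx b' d') =
      (bx (coc (bx a c) (bx b d) (bx c' a') (bx d' b')) false, bx (bx a c') (bx c a'),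
        bx (bx b d') (bx d b')) := by decide +kernel
  obtain ⟨e, f, a, b, c, d, σ⟩ := x
  cases σ <;> fin_cases s
  exacts [(l ..).1, Prod.ext (k ..) rfl, Prod.ext (k ..) rfl, (l ..).2, Prod.ext (k ..) rfl,
    Prod.ext (k ..) rfl]

theorem Mon_mul (x y : T0) : Mon x * Mon y = Mon (x * y) ∨ Mon x * Mon y = -Mon (x * y) := by
  have e : ∀ s t, (Mon x * Mon y) s t =
      if t = pm (x * y).s s then qw (qm (qe x s) (qe y (pm x.s s))) else 0 := fun s t => by
    rw [show (x * y).s = bx x.s y.s from congrArg (bx x.s) (T0.sw_s ..), pm_mul, ← qw_mul,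
      mul_apply, Finset.sum_eq_single (pm x.s s) (fun u _ h => by simp [Mon, h]) (by simp)]
    simp [Mon]
  simp only [qe_mul] at e
  cases h : T0.k1 x (T0.sw x.s y) <;> rw [h] at e
  · exact .inl (Matrix.ext e)
  · refine .inr (Matrix.ext fun s t => ?_)
    rw [e, qw_neg, Matrix.neg_apply, Mon, of_apply]; split_ifs <;> simp

noncomputable abbrev GM := MonoidHom.mrange mat

theorem neg_mem' {A : Mt} (h : A ∈ GM) : -A ∈ GM := by
  have := mul_mem (mul_mem (ex_mon (e2 0) (diagonal ![-1, 1, 1]) (by decide +kernel))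
    (ex_mon (e2 1) (diagonal ![1, -1, 1]) (by decide +kernel)))
    (ex_mon (e2 2) (diagonal ![1, 1, -1]) (by decide +kernel))
  rw [← map_mul, ← map_mul, show diagonal ![-1, 1, 1] * diagonal ![1, -1, 1] *
    diagonal ![1, 1, -1] = (-1 : Mm) by decide +kernel, map_neg, map_one] at this
  simpa using mul_mem this h

theorem Mon_mul_mem {x y : T0} (hx : Φ (Mon x) ∈ GM) (hy : Φ (Mon y) ∈ GM) :
    Φ (Mon (x * y)) ∈ GM := by
  have := mul_mem hx hy
  rw [← map_mul] at this
  rcases Mon_mul x y with e | e <;> rw [e] at this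
  exacts [this, by simpa using neg_mem' this]

def x1 : T0 := ⟨true, true, true, false, false, false, false⟩
def x2 : T0 := ⟨true, true, false, true, false, false, false⟩
/-- reflections exchanging the first two coordinates -/
def sw01 (c : M) : Mm := !![0, c, 0; st c, 0, 0; 0, 0, 1]

theorem sw_mem : Φ (sw01 1) ∈ GM := ex_mon ![qh, -qh, 0] _ (by decide +kernel)

theorem genT : ∀ x, ∃ p q, inQ (x * (pw p x1 * pw q x2)⁻¹) = true := by decide +kernel

theorem Mon_mem (x : T0) : Φ (Mon x) ∈ GM := by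
  have o : Φ (Mon 1) ∈ GM := by rw [show Mon 1 = 1 by decide +kernel, map_one]; exact one_mem _
  have w : ∀ (b : Bool) {x}, Φ (Mon x) ∈ GM → Φ (Mon (pw b x)) ∈ GM := fun b x h => by
    cases b
    exacts [o, h]
  have z : Φ (Mon z0) ∈ GM := by
    simpa using neg_mem' (ex_mon (e2 0) (-Mon z0) (by decide +kernel))
  have p0 := ex_mon ![0, qh, -qh] (Mon (pp 0)) (by decide +kernel)
  have p1 := ex_mon ![0, qh, qh * qi] (Mon (pp 1)) (by decide +kernel)
  have p2 := ex_mon ![0, qh, -(qh * qj)] (Mon (pp 2)) (by decide +kernel)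
  have p3 := ex_mon ![0, qh, qh * qk] (Mon (pp 3)) (by decide +kernel)
  have a1 := neg_mem' (mul_mem sw_mem (ex_mon ![qh, -(qh * qi), 0] (sw01 qi) (by decide +kernel)))
  have a2 := neg_mem' (mul_mem sw_mem (ex_mon ![qh, -(qh * qj), 0] (sw01 qj) (by decide +kernel)))
  rw [← map_mul, ← map_neg] at a1 a2
  rw [show -(sw01 1 * sw01 qi) = Mon x1 by decide +kernel] at a1
  rw [show -(sw01 1 * sw01 qj) = Mon x2 by decide +kernel] at a2
  obtain ⟨p, q, h⟩ := genT x
  obtain ⟨e, a, b, c, d, h⟩ := genQ _ h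
  rw [mul_inv_eq_iff_eq_mul.1 h]
  exact Mon_mul_mem (Mon_mul_mem (Mon_mul_mem (Mon_mul_mem (Mon_mul_mem (w _ z) (w _ p0)) (w _ p1))
    (w _ p2)) (w _ p3)) (Mon_mul_mem (w _ a1) (w _ a2))

theorem zero_of {A : Mt} {d d' : Fin 3 → M} (h : A * Φ (diagonal d) = Φ (diagonal d') * A)
    {s t : Fin 3} (e : d' s = -d t ∧ (d t = 1 ∨ d t = -1)) : A s t = 0 := by
  have := congrFun (congrFun h s) t
  rw [Φ, RingHom.mapMatrix_apply, RingHom.mapMatrix_apply, diagonal_map (map_zero φ),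
    diagonal_map (map_zero φ), mul_diagonal, diagonal_mul, e.1] at this
  refine half ?_
  rcases e.2 with e | e <;> rw [e] at this <;> simpa [← eq_neg_iff_add_eq_zero, neg_eq_iff_eq_neg]
    using this

theorem Mon_z : Mon z0 = diagonal ![1, -1, -1] := by decide +kernel
theorem Mon_u : Mon (pp 4) = diagonal ![1, -1, 1] := by decide +kernel

/-- block form -/
def Bl (A : Mt) : Prop := A 0 1 = 0 ∧ A 0 2 = 0 ∧ A 1 0 = 0 ∧ A 2 0 = 0

theorem bl_of {A : Mt} (h : A * Φ (Mon z0) = Φ (Mon z0) * A) : Bl A := by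
  rw [Mon_z] at h
  exact ⟨zero_of h (by decide), zero_of h (by decide), zero_of h (by decide), zero_of h (by decide)⟩

theorem dg_of {A : Mt} (h : A * Φ (Mon (pp 4)) = Φ (Mon (pp 4)) * A) : A 1 2 = 0 ∧ A 2 1 = 0 := by
  rw [Mon_u] at h
  exact ⟨zero_of h (by decide), zero_of h (by decide)⟩

theorem ev_of {x : M} (h : Ev (x * hb)) (h' : Ev (x * qh)) : Ev x := by
  have := (h.add h').add ⟨x * sc ⟨0, 1⟩, rfl⟩
  rwa [← mul_add, ← mul_add, ← mul_add, show hb + qh + (sc ⟨0, 1⟩ + sc ⟨0, 1⟩) = 1 by decide,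
    mul_one] at this

theorem Ev.neg {x : M} (h : Ev (-x)) : Ev x := by simpa using h.mul (-1)

/-- diagonal elements have icosian entries -/
theorem diag {g : Γ} (h : Bl (mat g)) (h' : mat g 1 2 = 0 ∧ mat g 2 1 = 0) :
    ∃ a b c, mat g = Φ (diagonal ![a, b, c]) ∧ Un a ∧ Un b ∧ Un c := by
  obtain ⟨h1, h2, h3, h4⟩ := h
  obtain ⟨h5, h6⟩ := h'
  have k : ∀ t, (∀ s, s ≠ t → mat g t s = 0) → ∃ a, φ a = mat g t t ∧ Un a := fun t ht => by
    obtain ⟨w, hw, e, n⟩ := row g t
    rw [e2_mul] at e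
    have z : ∀ s, s ≠ t → w s = 0 := fun s hs => φ_inj (by
      simpa [ht s hs] using congrFun e s)
    obtain ⟨a, ha⟩ : Ev (w t) := by
      rw [mem_LM] at hw
      fin_cases t
      · have z1 := z 1 (by decide)
        have z2 := z 2 (by decide)
        exact ev_of (by simpa [z1] using hw.1) (by simpa [z1, z2] using hw.2.2)
      · have z1 := z 0 (by decide)
        have z2 := z 2 (by decide)
        exact ev_of (by simpa [z2] using hw.2.1) (by simpa [z1, z2] using hw.2.2)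
      · have z1 := z 0 (by decide)
        have z2 := z 1 (by decide)
        exact ev_of (Ev.neg (by simpa [z2] using hw.2.1)) (by simpa [z1, z2] using hw.2.2)
    have n : w t * st (w t) = 1 + 1 + (1 + 1) := by
      rw [← n, ip]
      fin_cases t <;> simp +contextual [z]
    rw [ha, st_add, mul_add, add_mul] at n
    have n := two_cancel (two_cancel n)
    refine ⟨a, half (by simpa [ha] using congrFun e t), (enum (by
      rw [T_eq, n]; decide)).resolve_left fun c => ?_⟩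
    rw [c, zero_mul] at n
    exact absurd n (by decide)
  obtain ⟨a, ha, a'⟩ := k 0 fun s hs => by fin_cases s <;> simp_all
  obtain ⟨b, hb, b'⟩ := k 1 fun s hs => by fin_cases s <;> simp_all
  obtain ⟨c, hc, c'⟩ := k 2 fun s hs => by fin_cases s <;> simp_all
  refine ⟨a, b, c, Matrix.ext fun s t => ?_, a', b', c'⟩
  fin_cases s <;> fin_cases t <;> simp [Φ_apply, *]

/-- the diagonal elements -/
def Dg (t : T0) (k : Fin 3) : Mm := diagonal fun s => qw (qe t s) * om ^ k.val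

theorem Dg_eq {t : T0} (h : inT t = true) (k : Fin 3) : Dg t k = Mon t * Dg 1 k := by
  have : Mon t = diagonal fun s => qw (qe t s) := Matrix.ext fun s u => by
    simp [Mon, show t.s = false by simpa [inT] using h, pm, diagonal_apply, eq_comm]
  rw [this, Dg, Dg, diagonal_mul_diagonal]
  congr 2 with s
  rw [show qw (qe 1 s) = 1 by revert s; decide, one_mul]

theorem dg3 : ∀ e e' a' b' e'' a'' b'', ∃ ε ε' : Bool,
    ![qv e (xor a' a'') (xor b' b''), qv e' a' b', qv e'' a'' b''] =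
      (fun s => qw (qe ⟨ε, ε', a', b', a'', b'', false⟩ s)) ∨
    ![qv e (xor a' a'') (xor b' b''), qv e' a' b', qv e'' a'' b''] =
      fun s => -qw (qe ⟨ε, ε', a', b', a'', b'', false⟩ s) := by
  decide +kernel

theorem diag2 {g : Γ} (h : Bl (mat g)) (h' : mat g 1 2 = 0 ∧ mat g 2 1 = 0) :
    ∃ t k, inT t = true ∧ (mat g = Φ (Dg t k) ∨ mat g = -Φ (Dg t k)) := by
  obtain ⟨a, b, c, e, ha, hb', hc⟩ := diag h h'
  obtain ⟨a1, a2, a3⟩ := mem_LM.1 (LM_mul e (v := ![qh, qh, 0]) (by decide))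
  obtain ⟨-, b2, b3⟩ := mem_LM.1 (LM_mul e (v := ![0, qh, qh]) (by decide))
  obtain ⟨-, -, c3⟩ := mem_LM.1 (LM_mul e (v := ![hb, hb, hb]) (by decide))
  simp only [vecMul_diagonal, cons_val, zero_mul, sub_zero, add_zero, zero_add] at a1 a2 a3 b2 b3 c3
  obtain ⟨e1, p1, q1, k1, rfl⟩ := ha.2.2.1 (by simpa [sub_mul] using a1.add a2)
  obtain ⟨e2, p2, q2, k2, rfl⟩ := hb'.2.2.1 a2
  obtain ⟨e3, p3, q3, k3, rfl⟩ := hc.2.2.1 (by simpa [sub_mul] using (b2.mul (-1)).add a2)
  obtain rfl := dg1 _ _ _ _ _ _ _ _ a3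
  obtain rfl := dg1 _ _ _ _ _ _ _ _ b3
  obtain ⟨rfl, rfl⟩ := dg2 _ _ _ _ _ _ _ _ _ _ c3
  obtain ⟨ε, ε', k⟩ := dg3 e1 e2 p2 q2 e3 p3 q3
  refine ⟨⟨ε, ε', p2, q2, p3, q3, false⟩, k1, rfl, k.imp (fun k => ?_) fun k => ?_⟩
  · rw [e, Dg]
    congr 2 with s
    rw [← congrFun k s]
    fin_cases s <;> rfl
  · rw [e, Dg, ← map_neg, diagonal_neg]
    congr 2 with s
    rw [← neg_mul, ← congrFun k s]
    fin_cases s <;> rfl

theorem cen_mon : ∀ t k, inT t = true → (sw01 1 * Dg t k) 0 1 = (Dg t k * sw01 1) 0 1 →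
    (∀ l : Fin 5, (Mon (pp l) * Dg t k) 1 2 = (Dg t k * Mon (pp l)) 1 2) →
    Dg t k = 1 ∨ Dg t k = -1 := by
  decide +kernel

theorem π_eq {g g' : Γ} : π g = π g' ↔ mat g = mat g' ∨ mat g = -mat g' := by
  rw [← mul_inv_eq_one, ← map_inv, ← map_mul, π_eq_one]
  have e : ∀ A, mat (g * g'⁻¹) = A ↔ mat g = A * mat g' := fun A =>
    ⟨fun e => by rw [← e, ← map_mul, inv_mul_cancel_right],
      fun e => by rw [map_mul, e, mul_assoc, ← map_mul, mul_inv_cancel, map_one, mul_one]⟩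
  rw [← one_mul (mat g'), ← neg_mul, ← e, ← e]
  generalize g * g'⁻¹ = g
  refine ⟨fun h => ?_, by rintro (h | h) <;> simp [h]⟩
  have h : ∀ A ∈ GM, A * mat g = mat g * A := by rintro _ ⟨k, rfl⟩; exact h k
  obtain ⟨t, k, ht, e⟩ := diag2 (bl_of (h _ (Mon_mem _)).symm) (dg_of (h _ (Mon_mem _)).symm)
  have c : ∀ B, Φ B ∈ GM → B * Dg t k = Dg t k * B := fun B hB => Φ_inj (by
    have := h _ hB
    rcases e with e | e <;> simpa [e] using this)
  rcases cen_mon t k ht (by rw [c _ sw_mem]) (fun l => by rw [c _ (Mon_mem _)]) with c | c <;> rw [c] at e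
  · simpa using e
  · simpa [or_comm] using e

/-- a lift of the monomial matrix -/
noncomputable def gm (x : T0) : Γ := (Mon_mem x).choose

theorem mat_gm (x : T0) : mat (gm x) = Φ (Mon x) := (Mon_mem x).choose_spec

/-- the Sylow subgroup of `J₂` -/
noncomputable def jJ : T0 →* J2 := MonoidHom.mk' (fun x => π (gm x)) fun x y => by
  rw [← map_mul, eq_comm, π_eq, map_mul, mat_gm, mat_gm, mat_gm, ← map_mul, ← map_neg]
  exact (Mon_mul x y).imp (congrArg Φ) (congrArg Φ)

theorem jJ_apply (x : T0) : jJ x = π (gm x) := rfl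

theorem jJ_inj : Function.Injective jJ := (injective_iff_map_eq_one _).2 fun x e => by
  rw [jJ_apply, ← map_one π, π_eq, mat_gm, map_one, ← map_one Φ, ← map_neg, Φ_inj.eq_iff,
    Φ_inj.eq_iff] at e
  revert x
  decide +kernel

end JJ
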